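import Groth.Agent.AlgSp.K925.RedGrp
import Groth.Agent.S1629

/-!
# Geometrically reduced reductions after a finite extension
-/

set_option autoImplicit false
universe u

open CategoryTheory CategoryTheory.Limits AlgebraicGeometry

namespace K925.RedGrp

/-- Two reduced closed subschemes with the same points are isomorphic. -/
theorem exists_iso {X Y Z : Scheme.{u}} (a : Y ⟶ X) (b : Z ⟶ X) [IsClosedImmersion a] [IsClosedImmersion b]
    [AlgebraicGeometry.IsReduced Y] [AlgebraicGeometry.IsReduced Z] (h : Set.range a = Set.range b) :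
    ∃ e : Y ≅ Z, e.hom ≫ b = a := by
  obtain ⟨g, hg⟩ := Groth.Agent.S4367.result a b h.le
  obtain ⟨g', hg'⟩ := Groth.Agent.S4367.result b a h.ge
  refine ⟨⟨g, g', ?_, ?_⟩, hg⟩
  · rw [← cancel_mono a, Category.assoc, hg', hg, Category.id_comp]
  · rw [← cancel_mono b, Category.assoc, hg, hg', Category.id_comp]

variable {K : Type u} [Field K]

theorem exists_finite {X : Scheme.{u}} (f : X ⟶ Spec (CommRingCat.of K)) [LocallyOfFiniteType f]
    [QuasiCompact f] :
    ∃ (K₁ : Type u) (_ : Field K₁) (_ : Algebra K K₁), FiniteDimensional K K₁ ∧ IsPurelyInseparable K K₁ ∧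
      ∀ (K₂ : Type u) [Field K₂] (φ : K₁ →+* K₂) {X₂ Xr : Scheme.{u}} (a : X₂ ⟶ X)
        (b : X₂ ⟶ Spec (CommRingCat.of K₂))
        (_ : IsPullback a b f (Spec.map (CommRingCat.ofHom (φ.comp (algebraMap K K₁)))))
        (r : Xr ⟶ X₂) [IsClosedImmersion r] [Surjective r] [AlgebraicGeometry.IsReduced Xr],
        GeometricallyReduced (r ≫ b) := by
  let _ : X.Over (Spec (CommRingCat.of K)) := ⟨f⟩
  have hlft : LocallyOfFiniteType (X ↘ (Spec (CommRingCat.of K))) := inferInstanceAs (LocallyOfFiniteType f)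
  have hnoeth : IsNoetherian X := by
    have : IsLocallyNoetherian X := LocallyOfFiniteType.isLocallyNoetherian f
    have : CompactSpace X := QuasiCompact.compactSpace_of_compactSpace f
    exact {}
  obtain ⟨K₁, i1, i2, hfd, hpi, hgr⟩ := Groth.Agent.S1629.result K X
    TopologicalSpace.NoetherianSpace.finite_irreducibleComponents
  refine ⟨K₁, i1, i2, hfd, hpi, ?_⟩
  intro K₂ _ φ X₂ Xr a b hpb r _ _ _
  let φ' : Spec (CommRingCat.of K₂) ⟶ Spec (CommRingCat.of K₁) := Spec.map (CommRingCat.ofHom φ)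
  let i : (Curv2.bc K X K₁).nilradical.subscheme ⟶ Curv2.bc K X K₁ := (Curv2.bc K X K₁).nilradical.subschemeι
  let q : Curv2.bc K X K₁ ⟶ Spec (CommRingCat.of K₁) := Curv2.bcSnd K X K₁
  have hsq : IsPullback (Curv2.bcFst K X K₁) q f (Spec.map (CommRingCat.ofHom (algebraMap K K₁))) :=
    IsPullback.of_hasPullback _ _
  let t : X₂ ⟶ Curv2.bc K X K₁ := hsq.lift a (b ≫ φ') (by
    rw [hpb.w, Category.assoc, CommRingCat.ofHom_comp, Spec.map_comp])
  have ht : IsPullback t b q φ' := by
    refine IsPullback.of_right (h₁₂ := Curv2.bcFst K X K₁) (h₂₂ := Spec.map (CommRingCat.ofHom (algebraMap K K₁)))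
      (v₁₃ := f) ?_ (hsq.lift_snd _ _ _) hsq
    rw [hsq.lift_fst, ← Spec.map_comp, ← CommRingCat.ofHom_comp]
    exact hpb
  have hgr' : GeometricallyReduced (i ≫ q) := hgr
  -- the base change of the reduction
  let Y := pullback i t
  let j : Y ⟶ X₂ := pullback.snd i t
  have hY : IsPullback (pullback.fst i t) (j ≫ b) (i ≫ q) φ' :=
    (IsPullback.of_hasPullback i t).paste_vert ht
  have hYr : AlgebraicGeometry.IsReduced Y :=
    GeometricallyReduced.geometrically_isReduced (f := i ≫ q) φ' _ _ hY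
  have hgr2 : GeometricallyReduced (j ≫ b) := MorphismProperty.of_isPullback hY hgr'
  have hsurj : Surjective i := by
    refine ⟨Set.range_eq_univ.mp ?_⟩
    rw [Scheme.IdealSheafData.range_subschemeι]
    rfl
  have hjs : Surjective j := inferInstance
  have hjc : IsClosedImmersion j := inferInstance
  obtain ⟨e, he⟩ := exists_iso r j (by rw [r.surjective.range_eq, j.surjective.range_eq])
  rw [← he, Category.assoc]
  exact geometricallyReduced_comp e.hom (j ≫ b)

end K925.RedGrp
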