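import Groth.Agent.S3028
import Groth.Agent.S3031
import Groth.Agent.S7795
import Groth.Agent.S0348
import Groth.Agent.S0349
import Groth.Agent.S0355
import Groth.Agent.S5344
import Groth.Agent.S4367
import Groth.Agent.S7517

/-!
# The reduced identity component of a group scheme over a field

`main`: if an open neighbourhood `Γ` of the unit point has a geometrically reduced reduction `Γ_red`, then
the identity component of `G₀` carries a smooth geometrically integral closed subgroup scheme.
-/

set_option autoImplicit false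
universe u

open CategoryTheory CategoryTheory.Limits AlgebraicGeometry MonoidalCategory CartesianMonoidalCategory MonObj

namespace K925.RedGrp

/-- An open subscheme of a geometrically reduced scheme is geometrically reduced. -/
theorem geometricallyReduced_comp {X U Y : Scheme.{u}} (j : U ⟶ X) [IsOpenImmersion j] (f : X ⟶ Y)
    [GeometricallyReduced f] : GeometricallyReduced (j ≫ f) := by
  refine ⟨fun K _ y Z fst snd h => ?_⟩
  have h1 := IsPullback.of_hasPullback f y
  have h2 : AlgebraicGeometry.IsReduced (pullback f y) :=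
    GeometricallyReduced.geometrically_isReduced (f := f) y _ _ h1
  let t : Z ⟶ pullback f y := pullback.lift (fst ≫ j) snd (by rw [Category.assoc]; exact h.w)
  have h3 : IsPullback t fst (pullback.fst f y) j := by
    refine IsPullback.of_right (h₁₂ := pullback.snd f y) (h₂₂ := f) (v₁₃ := y) ?_ (pullback.lift_fst _ _ _)
      h1.flip
    rw [pullback.lift_snd]
    exact h.flip
  have : IsOpenImmersion t := MorphismProperty.of_isPullback h3.flip inferInstance
  exact isReduced_of_isOpenImmersion t

variable {K : Type u} [Field K]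

theorem main (G₀ : Over (Spec (CommRingCat.of K))) [GrpObj G₀] [LocallyOfFiniteType G₀.hom]
    {Γ Γr : Scheme.{u}} (j : Γ ⟶ G₀.left) [IsOpenImmersion j]
    (he : (η[G₀] : 𝟙_ (Over (Spec (CommRingCat.of K))) ⟶ G₀).left (IsLocalRing.closedPoint K) ∈ Set.range j)
    (r : Γr ⟶ Γ) [IsClosedImmersion r] [Surjective r] [AlgebraicGeometry.IsReduced Γr]
    [GeometricallyReduced (r ≫ j ≫ G₀.hom)] :
    ∃ (H : Over (Spec (CommRingCat.of K))) (_ : GrpObj H) (i : H ⟶ G₀), IsMonHom i ∧
      IsClosedImmersion i.left ∧ Smooth H.hom ∧ GeometricallyIntegral H.hom ∧ QuasiCompact H.hom ∧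
      Set.range i.left = connectedComponent
        ((η[G₀] : 𝟙_ (Over (Spec (CommRingCat.of K))) ⟶ G₀).left (IsLocalRing.closedPoint K)) := by
  set e0 : G₀.left := (η[G₀] : 𝟙_ (Over (Spec (CommRingCat.of K))) ⟶ G₀).left (IsLocalRing.closedPoint K)
    with he0
  have hopen : IsOpen (connectedComponent e0) :=
    (Groth.Agent.S5344.result K G₀ (IsLocalRing.closedPoint K)).1
  have hirr : IsIrreducible (connectedComponent e0) := (Groth.Agent.S0355.result K G₀).1
  let C : G₀.left.Opens := ⟨connectedComponent e0, hopen⟩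
  let V : Γr.Opens := (r ≫ j) ⁻¹ᵁ C
  let X : Over (Spec (CommRingCat.of K)) := Over.mk (V.ι ≫ r ≫ j ≫ G₀.hom)
  have hX : GeometricallyReduced X.hom := geometricallyReduced_comp V.ι (r ≫ j ≫ G₀.hom)
  let f : X ⟶ G₀ := Over.homMk (V.ι ≫ r ≫ j) (by simp [X])
  have hfr : Set.range f.left = (connectedComponent e0 ∩ Set.range j : Set G₀.left) := by
    ext y
    constructor
    · rintro ⟨x, rfl⟩
      exact ⟨x.2, ⟨r (V.ι x), rfl⟩⟩
    · rintro ⟨hy, ⟨z, rfl⟩⟩
      obtain ⟨w, rfl⟩ := r.surjective z
      exact ⟨⟨w, hy⟩, rfl⟩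
  have hemb : Topology.IsEmbedding f.left := by
    have h1 : Topology.IsEmbedding (j : Γ → G₀.left) := j.isOpenEmbedding.isEmbedding
    have h2 : Topology.IsEmbedding (r : Γr → Γ) := r.isClosedEmbedding.isEmbedding
    have h3 : Topology.IsEmbedding (V.ι : V → Γr) := V.ι.isOpenEmbedding.isEmbedding
    exact (h1.comp h2).comp h3
  have hirr' : IsIrreducible (connectedComponent e0 ∩ Set.range j : Set G₀.left) := by
    refine ⟨⟨e0, mem_connectedComponent, he⟩, ?_⟩
    have h1 : IsOpen (Set.range j) := j.isOpenEmbedding.isOpen_range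
    exact hirr.isPreirreducible.open_subset (hopen.inter h1) Set.inter_subset_left
  have himg : f.left '' Set.univ = connectedComponent e0 ∩ Set.range j := by
    rw [Set.image_univ, hfr]
  have : ConnectedSpace X.left := by
    have h1 : _root_.IsPreconnected (Set.univ : Set X.left) := by
      rw [← hemb.isInducing.isPreconnected_image, himg]
      exact hirr'.isPreirreducible.isPreconnected
    have h2 : Nonempty X.left := by
      obtain ⟨y, hy⟩ := hirr'.nonempty
      rw [← hfr] at hy
      exact ⟨hy.choose⟩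
    exact { isPreconnected_univ := h1, toNonempty := h2 }
  -- the unit section of `X`
  have hred1 : AlgebraicGeometry.IsReduced (𝟙_ (Over (Spec (CommRingCat.of K)))).left :=
    inferInstanceAs (AlgebraicGeometry.IsReduced (Spec (CommRingCat.of K)))
  have hsub1 : Subsingleton (𝟙_ (Over (Spec (CommRingCat.of K)))).left :=
    inferInstanceAs (Subsingleton (Spec (CommRingCat.of K)))
  obtain ⟨g, hg⟩ := Groth.Agent.S4367.result
    (IsOpenImmersion.lift j (η[G₀] : 𝟙_ (Over (Spec (CommRingCat.of K))) ⟶ G₀).left (by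
      rintro _ ⟨t, rfl⟩
      rwa [Subsingleton.elim t (IsLocalRing.closedPoint K)])) r (by
      rw [r.surjective.range_eq]; exact Set.subset_univ _)
  have hg' : g ≫ r ≫ j = (η[G₀] : 𝟙_ (Over (Spec (CommRingCat.of K))) ⟶ G₀).left := by
    rw [reassoc_of% hg, IsOpenImmersion.lift_fac]
  have hgV : Set.range g ⊆ Set.range V.ι := by
    rintro _ ⟨t, rfl⟩
    rw [Scheme.Opens.range_ι]
    change (r ≫ j) (g t) ∈ connectedComponent e0
    have h1 : (r ≫ j) (g t) = (η[G₀] : 𝟙_ (Over (Spec (CommRingCat.of K))) ⟶ G₀).left t := by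
      rw [← hg']; rfl
    rw [h1, Subsingleton.elim t (IsLocalRing.closedPoint K)]
    exact mem_connectedComponent
  let x : 𝟙_ (Over (Spec (CommRingCat.of K))) ⟶ X := Over.homMk (IsOpenImmersion.lift V.ι g hgV) (by
    have h1 : IsOpenImmersion.lift V.ι g hgV ≫ V.ι ≫ r ≫ j ≫ G₀.hom = g ≫ r ≫ j ≫ G₀.hom := by
      rw [IsOpenImmersion.lift_fac_assoc]
    refine h1.trans ?_
    rw [← Category.assoc r, ← Category.assoc g, hg']
    exact Over.w _)
  have hx : x ≫ f = η[G₀] := by
    apply Over.OverMorphism.ext
    change IsOpenImmersion.lift V.ι g hgV ≫ V.ι ≫ r ≫ j = _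
    rw [IsOpenImmersion.lift_fac_assoc, hg']
  obtain ⟨H, hH, i, hi, hic, hf', hHr, hmin⟩ := Groth.Agent.S3028.result K G₀ X f
  have hconn : ConnectedSpace H.left := Groth.Agent.S3031.result K G₀ X x f hx H i hf' hmin
  have hlft : LocallyOfFiniteType H.hom := by
    rw [← Over.w i]; infer_instance
  have hirrH : IrreducibleSpace H.left := Groth.Agent.S0348.result K H
  have hcomp : CompactSpace H.left := Groth.Agent.S0349.result K H
  have hη : (η[H] : 𝟙_ (Over (Spec (CommRingCat.of K))) ⟶ H) ≫ i = η[G₀] := IsMonHom.one_hom i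
  have hmem : e0 ∈ Set.range i.left := ⟨(η[H] : 𝟙_ (Over (Spec (CommRingCat.of K))) ⟶ H).left
    (IsLocalRing.closedPoint K), by rw [he0, ← hη]; rfl⟩
  refine ⟨H, hH, i, hi, hic, Groth.Agent.Grpsch.AbBC.smooth_hom H, ?_, ?_, ?_⟩
  · have h1 : GeometricallyIrreducible (𝟙 H.left ≫ H.hom) := by
      refine Groth.Agent.S7517.result K H H.left (𝟙 _) ?_ ⟨_, rfl⟩
      have : Set.range (𝟙 H.left : H.left ⟶ H.left) = Set.univ := Set.range_eq_univ.mpr fun z => ⟨z, rfl⟩
      rw [this, irreducibleComponents_eq_singleton]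
      rfl
    rw [Category.id_comp] at h1
    exact GeometricallyIntegral.of_geometricallyReduced_of_geometricallyIrreducible H.hom
  · exact (HasAffineProperty.iff_of_isAffine (P := @QuasiCompact)).mpr hcomp
  · apply Set.Subset.antisymm
    · rintro _ ⟨y, rfl⟩
      have h1 : _root_.IsPreconnected (Set.range i.left) := by
        rw [← Set.image_univ]
        exact isPreconnected_univ.image _ i.left.continuous.continuousOn
      exact h1.subset_connectedComponent hmem ⟨y, rfl⟩
    · have h1 : IsClosed (Set.range i.left) := i.left.isClosedEmbedding.isClosed_range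
      have h2 : (connectedComponent e0 ∩ Set.range j : Set G₀.left) ⊆ Set.range i.left := by
        rw [← hfr]
        obtain ⟨f', hf'⟩ := hf'
        rintro _ ⟨y, rfl⟩
        exact ⟨f'.left y, by rw [← hf']; rfl⟩
      have h3 : connectedComponent e0 ⊆ closure (connectedComponent e0 ∩ Set.range j : Set G₀.left) :=
        subset_closure_inter_of_isPreirreducible_of_isOpen hirr.isPreirreducible
          j.isOpenEmbedding.isOpen_range ⟨e0, mem_connectedComponent, he⟩
      exact h3.trans (closure_minimal h2 h1)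

end K925.RedGrp
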